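import Groth.Prelude.Def_P1
import Groth.Prelude.Def_BlowUp2
import Groth.Agent.Cyc90.P1Sect
import Groth.Agent.Div89.KoszulH1
import Groth.Agent.Div89.RegFlat
import Groth.Agent.QReg14.BaseChange
import Groth.Agent.CAlg1.H1QReg
import Groth.Agent.RegImm10.BlowFlatBC
import Groth.Agent.An92.FSch.Basic
import Groth.Agent.S1676
import Groth.Agent.S8654
import Groth.Agent.H98Proj.SmoothPn

/-! The centre `Y × {∞}` of the deformation space: regularity, flat powers, base change. -/

set_option autoImplicit false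
set_option backward.isDefEq.respectTransparency.types false
set_option synthInstance.maxHeartbeats 200000
set_option linter.style.haveILetI false
universe u

open CategoryTheory CategoryTheory.Limits AlgebraicGeometry

noncomputable section

namespace Groth.Agent.Cyc90.Defo

variable {X Y S : Scheme.{u}}

/-- A section of the projective line at a coordinate point is a Koszul-regular immersion. -/
theorem isRegularImmersion_sect (X : Scheme.{u}) (i : Fin (1 + 1)) :
    RegImm.IsRegularImmersion .koszul (P1.sect X i) := by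
  haveI : Smooth (CohB1.ProjSpaceOver.toBase 1 X) := H98Proj.smooth_toBase 1 X
  obtain ⟨hc, h⟩ := S1676.result (CohB1.ProjSpaceOver.toBase 1 X) (P1.sect X i) (P1L.sect_toBase X i)
  haveI := hc
  refine ⟨inferInstance, fun z => ?_⟩
  obtain ⟨U, hU, hz, rs, hrs, hI⟩ := h z
  refine ⟨⟨U, hU⟩, hz, inferInstance, rs, (Div89.seq_implications rs).1 hrs, ?_⟩
  rw [← hI, Scheme.Hom.ker_apply]

/-- The centre of the deformation space is Koszul-regularly immersed. -/
theorem isRegularImmersion_centre (i : Y ⟶ X) {c : ℕ}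
    (hi : RegImm.IsRegularImmersionOfCodim .regular c i) :
    RegImm.IsRegularImmersion .koszul (i ≫ P1.sect X 1) := by
  refine S8654.result _ _ (isRegularImmersion_sect X 1) ⟨hi.1, fun z => ?_⟩
  obtain ⟨U, hz, hcl, rs, -, hrs, hker⟩ := hi.2 z
  exact ⟨U, hz, hcl, rs, (Div89.seq_implications rs).1 hrs, hker⟩

/-- The powers of a Koszul-regular closed immersion with flat source have flat subschemes. -/
theorem flat_pow {Z P : Scheme.{u}} (k : Z ⟶ P) [IsClosedImmersion k]
    (hk : RegImm.IsRegularImmersion .koszul k) (g : P ⟶ S) [Flat (k ≫ g)] (n : ℕ) :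
    Flat ((k.ker ^ (n + 1)).subschemeι ≫ g) := by
  haveI hflat : Flat (k.ker.subschemeι ≫ g) := by
    have : IsIso k.toImage := inferInstance
    rw [show k.ker.subschemeι ≫ g = inv k.toImage ≫ k ≫ g from by
      refine Eq.trans (congrArg (· ≫ g) ?_) (Category.assoc _ _ _)
      rw [IsIso.eq_inv_comp]
      exact k.toImage_imageι]
    infer_instance
  rw [HasRingHomProperty.iff_exists_appLE (P := @Flat)
    (RingHom.Flat.stableUnderComposition.stableUnderCompositionWithLocalizationAway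
      RingHom.Flat.holdsForLocalizationAway).left]
  intro w
  set ιn := (k.ker ^ (n + 1)).subschemeι with hιn
  obtain ⟨_, ⟨V, hV, rfl⟩, hwV, -⟩ :=
    S.isBasis_affineOpens.exists_subset_of_mem_open (Set.mem_univ (g (ιn w))) isOpen_univ
  obtain ⟨z, hz⟩ : ιn w ∈ Set.range k := by
    have h1 : ιn w ∈ Set.range ιn := ⟨w, rfl⟩
    rw [hιn, Scheme.IdealSheafData.range_subschemeι, Scheme.IdealSheafData.support_pow_succ,
      Scheme.Hom.support_ker, k.isClosedEmbedding.isClosed_range.closure_eq] at h1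
    exact h1
  obtain ⟨U, hzU, -, rs, hrs, hker⟩ := hk.2 z
  have hzU' : ιn w ∈ U.1 := hz ▸ hzU
  obtain ⟨h, hle, hmem⟩ := U.2.exists_basicOpen_le (V := g ⁻¹ᵁ V) ⟨ιn w, hwV⟩ hzU'
  let U' : P.affineOpens := ⟨P.basicOpen h, U.2.basicOpen h⟩
  letI iA := (g.appLE V U'.1 hle).hom.toAlgebra
  letI iL : Algebra Γ(P, U.1) Γ(P, U'.1) := (P.presheaf.map (homOfLE (P.basicOpen_le h)).op).hom.toAlgebra
  haveI : IsLocalization.Away h Γ(P, U'.1) := U.2.isLocalization_basicOpen h
  haveI : Module.Flat Γ(P, U.1) Γ(P, U'.1) := IsLocalization.flat _ (Submonoid.powers h)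
  have hq : CAlgX.IsQuasiRegular (fun a => algebraMap Γ(P, U.1) Γ(P, U'.1) (rs.get a)) :=
    Div89.RegFlat.isQuasiRegular_flat (CAlg1.isQuasiRegular_of_isH1Regular rs.get (Div89.isH1Regular_of_koszul rs hrs))
  have hI : k.ker.ideal U' = Ideal.span (Set.range fun a => algebraMap Γ(P, U.1) Γ(P, U'.1) (rs.get a)) := by
    rw [← k.ker.map_ideal (U := U') (V := U) (P.basicOpen_le h), Scheme.Hom.ker_apply, hker, Ideal.ofList,
      Ideal.map_span]
    congr 1
    ext x
    simp only [Set.mem_image, Set.mem_setOf_eq, Set.mem_range, List.mem_iff_get]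
    constructor
    · rintro ⟨_, ⟨a, rfl⟩, rfl⟩; exact ⟨a, rfl⟩
    · rintro ⟨a, rfl⟩; exact ⟨_, ⟨a, rfl⟩, rfl⟩
  haveI : Module.Flat Γ(S, V) (Γ(P, U'.1) ⧸ k.ker.ideal U') :=
    RegImm10.BlowFlatBC.flat_quot g k.ker U'.2 hV hle
  rw [hI] at this
  haveI := this
  have hfl := QReg14.flat_quotient_pow (A := Γ(S, V)) _ hq (n + 1)
  rw [← hI] at hfl
  refine ⟨⟨V, hV⟩, ⟨ιn ⁻¹ᵁ U'.1, U'.2.preimage ιn⟩, hmem, fun y hy => hle hy, ?_⟩
  let φ : Γ(P, U'.1) →+* Γ((k.ker ^ (n + 1)).subscheme, ιn ⁻¹ᵁ U'.1) := (ιn.app U'.1).hom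
  letI : Algebra Γ(S, V) Γ((k.ker ^ (n + 1)).subscheme, ιn ⁻¹ᵁ U'.1) :=
    ((ιn ≫ g).appLE V (ιn ⁻¹ᵁ U'.1) (fun y hy => hle hy)).hom.toAlgebra
  have hφ : ∀ r, φ (algebraMap Γ(S, V) Γ(P, U'.1) r) =
      algebraMap Γ(S, V) Γ((k.ker ^ (n + 1)).subscheme, ιn ⁻¹ᵁ U'.1) r := fun r => by
    simp only [RingHom.algebraMap_toAlgebra, φ]
    rw [← ConcreteCategory.comp_apply, Scheme.Hom.app_eq_appLE, Scheme.Hom.appLE_comp_appLE]
  let φₐ : Γ(P, U'.1) →ₐ[Γ(S, V)] Γ((k.ker ^ (n + 1)).subscheme, ιn ⁻¹ᵁ U'.1) := { φ with commutes' := hφ }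
  have hkerφ : RingHom.ker φₐ.toRingHom = k.ker.ideal U' ^ (n + 1) :=
    ((k.ker ^ (n + 1)).ker_subschemeι_app U').trans
      (by rw [Scheme.IdealSheafData.ideal_pow, Pi.pow_apply])
  haveI := hfl
  exact Module.Flat.of_linearEquiv
    ((Ideal.quotientEquivAlgOfEq Γ(S, V) hkerφ.symm).trans
      (Ideal.quotientKerAlgEquivOfSurjective (f := φₐ) ((k.ker ^ (n + 1)).subschemeι_app_surjective U'))).toLinearEquiv.symm

/-- The section at a coordinate point commutes with base change. -/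
theorem isPullback_sect_toP1 {X' : Scheme.{u}} (g : X' ⟶ X) (i : Fin (1 + 1)) :
    IsPullback g (P1.sect X' i) (P1.sect X i) (P1.toP1 g) := by
  have hsq : IsPullback (P1.toP1 g) (CohB1.ProjSpaceOver.toBase 1 X') (CohB1.ProjSpaceOver.toBase 1 X) g :=
    isPullback_toP1 g
  refine IsPullback.of_bot ?_ ?_ hsq
  · rw [P1L.sect_toBase, P1L.sect_toBase]
    exact IsPullback.of_vert_isIso ⟨by simp⟩
  · apply pullback.hom_ext
    · refine (Category.assoc _ _ _).trans (Eq.trans ?_ (Category.assoc _ _ _).symm)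
      erw [pullback.lift_fst, pullback.lift_fst]
      rw [Category.comp_id]
      erw [pullback.lift_fst]
      rw [← Category.assoc]
      congr 1
      exact specULiftZIsTerminal.hom_ext _ _
    · refine (Category.assoc _ _ _).trans (Eq.trans ?_ (Category.assoc _ _ _).symm)
      erw [pullback.lift_snd, pullback.lift_snd, pullback.lift_snd_assoc]
      rw [Category.comp_id, Category.id_comp]
where
  isPullback_toP1 {X' X : Scheme.{u}} (g : X' ⟶ X) :
      IsPullback (P1.toP1 g) (CohB1.ProjSpaceOver.toBase 1 X') (CohB1.ProjSpaceOver.toBase 1 X) g := by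
    refine IsPullback.of_right ?_ (pullback.lift_snd _ _ _) (IsPullback.of_hasPullback _ _)
    have e : g ≫ specULiftZIsTerminal.from X = specULiftZIsTerminal.from X' := specULiftZIsTerminal.hom_ext _ _
    have e2 : P1.toP1 g ≫ pullback.fst _ _ = pullback.fst _ _ ≫ 𝟙 _ := pullback.lift_fst _ _ _
    rw [Category.comp_id] at e2
    rw [e2, e]
    exact IsPullback.of_hasPullback _ _

end Groth.Agent.Cyc90.Defo
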